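import Cfsg.Agent.SporB.Suz.B.Check0

set_option autoImplicit false
set_option maxRecDepth 100000

namespace Cfsg.Agent.CosetEnum.Suz.B

theorem dok0 : allRange sys.checkDef 0 1024 = true := by decide +kernel

theorem dok1 : allRange sys.checkDef 1024 180 = true := by decide +kernel

def fchunks : List (ℕ × ℕ) := [(128, fv0), (128, fv1), (128, fv2), (128, fv3), (128, fv4), (128, fv5), (128, fv6), (128, fv7), (128, fv8), (128, fv9), (128, fv10), (128, fv11), (128, fv12), (128, fv13), (46, fv14)]

def rchunks : List (ℕ × ℕ) := [(64, rv0), (64, rv1), (7, rv2)]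

theorem factsOK : sys.FactsOK 1204 fchunks := ⟨fok0, fok1, fok2, fok3, fok4, fok5, fok6, fok7, fok8, fok9, fok10, fok11, fok12, fok13, fok14, trivial⟩

theorem rowsOK : sys.RowsOK 135 3042 0 rchunks := ⟨rok0, rok1, rok2, trivial⟩

theorem cert : Cert sys 135 1204 3042 :=
  Cert.of_chunks [1024,180] fchunks rchunks (by decide) ⟨dok0, dok1, trivial⟩ (by decide +kernel) factsOK (by decide +kernel) rowsOK (by decide +kernel)

theorem rules_ok : sys.rules.all (fun R => R.check sys rels subs) = true := by decide +kernel

theorem inv_ok : allRange (fun l => Nat.beq (sys.inv l) l) 0 (sys.nl + 1) = true := by decide +kernel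

end Cfsg.Agent.CosetEnum.Suz.B
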